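import Mathlib.Algebra.Module.FinitePresentation
import Mathlib.RingTheory.Flat.IsBaseChange
import Mathlib.RingTheory.Nakayama
import Mathlib.RingTheory.Noetherian.Basic
import Mathlib.RingTheory.Ideal.Quotient.Operations
import Mathlib.LinearAlgebra.TensorProduct.Pi
import Mathlib.RingTheory.TensorProduct.Quotient

/-!
# Descending a map which is surjective up to torsion along a Zariski pair
-/

set_option autoImplicit false

universe u

open TensorProduct

namespace GrothLib.ZPairVB28

variable {A : Type u} [CommRing A] {A' : Type u} [CommRing A'] [Algebra A A']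

/-- A module killed by an ideal injects in its base change along an algebra agreeing modulo the ideal. -/
theorem eq_zero_of_one_tmul_eq_zero {I : Ideal A}
    (hsurj : ∀ b : A', ∃ a : A, b - algebraMap A A' a ∈ I.map (algebraMap A A'))
    (hinj : ∀ a : A, algebraMap A A' a ∈ I.map (algebraMap A A') → a ∈ I)
    {Q : Type u} [AddCommGroup Q] [Module A Q] (hQ : ∀ r ∈ I, ∀ z : Q, r • z = 0)
    (z : Q) (hz : (1 : A') ⊗ₜ[A] z = 0) : z = 0 := by
  choose c hc using hsurj
  have key : ∀ (b : A') (a : A), b - algebraMap A A' a ∈ I.map (algebraMap A A') → ∀ q : Q, c b • q = a • q := by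
    intro b a h q
    rw [← sub_eq_zero, ← sub_smul]
    refine hQ _ (hinj _ ?_) q
    have := Ideal.sub_mem _ h (hc b)
    rwa [sub_sub_sub_cancel_left, ← map_sub] at this
  let B : A' →ₗ[A] Q →ₗ[A] Q := LinearMap.mk₂ A (fun b q => c b • q)
    (fun b b' q => by
      rw [← add_smul]
      refine key _ _ ?_ q
      rw [map_add, add_sub_add_comm]
      exact add_mem (hc b) (hc b'))
    (fun r b q => by
      rw [smul_smul]
      refine key _ _ ?_ q
      rw [map_mul, Algebra.smul_def, ← mul_sub]
      exact Ideal.mul_mem_left _ _ (hc b))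
    (fun b q q' => smul_add _ _ _) (fun r b q => smul_comm _ _ _)
  have h1 : c 1 • z = 0 := by
    have := congrArg (TensorProduct.lift B) hz
    rw [map_zero, TensorProduct.lift.tmul] at this
    exact this
  rwa [key 1 1 (by simp) z, one_smul] at h1

/-- Flat base change preserves the absence of torsion for a finitely generated ideal. -/
theorem torsionFree_baseChange [IsNoetherianRing A] [Module.Flat A A'] (𝔞 : Ideal A)
    (M : Type u) [AddCommGroup M] [Module A M] (hM : ∀ x : M, (∀ r ∈ 𝔞, r • x = 0) → x = 0)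
    (x : A' ⊗[A] M) (hx : ∀ r ∈ 𝔞, algebraMap A A' r • x = 0) : x = 0 := by
  classical
  obtain ⟨S, hS⟩ := IsNoetherian.noetherian 𝔞
  let f : M →ₗ[A] ((s : S) → M) := LinearMap.pi fun s => (s : A) • LinearMap.id
  have hf : Function.Injective f := by
    refine (injective_iff_map_eq_zero f).2 fun z hz => hM z fun r hr => ?_
    rw [← hS] at hr
    induction hr using Submodule.span_induction with
    | mem s hs => exact congrFun hz ⟨s, hs⟩
    | zero => exact zero_smul _ _
    | add a b _ _ ha hb => rw [add_smul, ha, hb, add_zero]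
    | smul a b _ hb => rw [smul_assoc, hb, smul_zero]
  have hval : ∀ (w : A' ⊗[A] M) (s : S),
      TensorProduct.piRight A A A' (fun _ : S => M) (f.lTensor A' w) s = algebraMap A A' s • w := by
    intro w s
    induction w using TensorProduct.induction_on with
    | zero => simp
    | tmul b z =>
      rw [LinearMap.lTensor_tmul, TensorProduct.piRight_apply, TensorProduct.piRightHom_tmul]
      show b ⊗ₜ[A] ((s : A) • z) = _
      rw [algebraMap_smul, TensorProduct.tmul_smul]
    | add w w' hw hw' =>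
      simp [map_add, smul_add] at hw hw' ⊢
      rw [hw, hw']
  refine Module.Flat.lTensor_preserves_injective_linearMap (M := A') f hf ?_
  rw [map_zero]
  refine (TensorProduct.piRight A A A' (fun _ : S => M)).injective (funext fun s => ?_)
  rw [hval, map_zero, Pi.zero_apply]
  exact hx _ (hS ▸ Submodule.subset_span s.2)

/-- A map over `A'` surjective up to `𝔞 ^ l` gives one over `A`. -/
theorem exists_hom_of_baseChange [IsNoetherianRing A] [Module.Flat A A'] {J 𝔞 : Ideal A}
    (hJ : J ≤ (⊥ : Ideal A).jacobson) {l n : ℕ} (hJn : J ^ n ≤ J * 𝔞 ^ l)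
    (hsurj : ∀ b : A', ∃ a : A, b - algebraMap A A' a ∈ (J ^ n).map (algebraMap A A'))
    (hinj : ∀ a : A, algebraMap A A' a ∈ (J ^ n).map (algebraMap A A') → a ∈ J ^ n)
    {M₁ M₂ : Type u} [AddCommGroup M₁] [Module A M₁] [Module.Finite A M₁]
    [AddCommGroup M₂] [Module A M₂] [Module.Finite A M₂]
    (h : A' ⊗[A] M₁ →ₗ[A'] A' ⊗[A] M₂)
    (hl : ∀ r ∈ 𝔞 ^ l, ∀ y : M₂, ∃ w, h w = algebraMap A A' r • ((1 : A') ⊗ₜ[A] y)) :
    ∃ g : M₁ →ₗ[A] M₂, ∀ r ∈ 𝔞 ^ l, ∀ y : M₂, r • y ∈ LinearMap.range g := by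
  classical
  haveI : Module.FinitePresentation A M₁ := Module.finitePresentation_of_finite A M₁
  obtain ⟨ξ, hξ⟩ := (Module.FinitePresentation.isBaseChange_map A M₁ M₂ A').equiv.surjective h
  let Θ := (Module.FinitePresentation.isBaseChange_map A M₁ M₂ A').equiv
  let T : Submodule A' (A' ⊗[A] M₂) := (J ^ n).map (algebraMap A A') • ⊤
  have happrox : ∀ η : A' ⊗[A] (M₁ →ₗ[A] M₂), ∃ g : M₁ →ₗ[A] M₂,
      ∀ x : M₁, Θ η ((1 : A') ⊗ₜ[A] x) - (1 : A') ⊗ₜ[A] g x ∈ T := by
    intro η
    induction η using TensorProduct.induction_on with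
    | zero => exact ⟨0, fun x => by simp⟩
    | tmul b f =>
      obtain ⟨a, ha⟩ := hsurj b
      refine ⟨a • f, fun x => ?_⟩
      have : Θ (b ⊗ₜ[A] f) ((1 : A') ⊗ₜ[A] x) - (1 : A') ⊗ₜ[A] (a • f) x =
          (b - algebraMap A A' a) • ((1 : A') ⊗ₜ[A] f x) := by
        simp [Θ, IsBaseChange.equiv_tmul, TensorProduct.tmul_smul]
        rw [← algebraMap_smul A' a]
        exact (sub_smul b (algebraMap A A' a) ((1 : A') ⊗ₜ[A] f x)).symm
      rw [this]
      exact Submodule.smul_mem_smul ha trivial
    | add η η' hη hη' =>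
      obtain ⟨g, hg⟩ := hη
      obtain ⟨g', hg'⟩ := hη'
      refine ⟨g + g', fun x => ?_⟩
      rw [map_add, LinearMap.add_apply, LinearMap.add_apply, TensorProduct.tmul_add, add_sub_add_comm]
      exact add_mem (hg x) (hg' x)
  obtain ⟨g, hg⟩ := happrox ξ
  refine ⟨g, ?_⟩
  have hg' : ∀ w, h w - g.baseChange A' w ∈ T := by
    intro w
    induction w using TensorProduct.induction_on with
    | zero => simp
    | tmul b x =>
      have e1 : b ⊗ₜ[A] x = b • ((1 : A') ⊗ₜ[A] x) := by simp [TensorProduct.smul_tmul']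
      rw [e1, map_smul, map_smul, LinearMap.baseChange_tmul, ← hξ]
      have := T.smul_mem b (hg x)
      rw [smul_sub] at this
      exact this
    | add w w' hw hw' => rw [map_add, map_add, add_sub_add_comm]; exact add_mem hw hw'
  let K : Submodule A M₂ := LinearMap.range g ⊔ (J * 𝔞 ^ l) • ⊤
  have hkill : ∀ r ∈ J ^ n, ∀ z : M₂ ⧸ K, r • z = 0 := by
    intro r hr z
    obtain ⟨z, rfl⟩ := K.mkQ_surjective z
    rw [← map_smul]
    exact (Submodule.Quotient.mk_eq_zero _).2
      (Submodule.mem_sup_right (Submodule.smul_mem_smul (hJn hr) trivial))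
  let ρ : A' ⊗[A] M₂ →ₗ[A'] A' ⊗[A] (M₂ ⧸ K) := K.mkQ.baseChange A'
  have hρg : ∀ w, ρ (g.baseChange A' w) = 0 := fun w => by
    induction w using TensorProduct.induction_on with
    | zero => simp
    | tmul b x =>
      show b ⊗ₜ[A] K.mkQ (g x) = 0
      rw [show K.mkQ (g x) = 0 from (Submodule.Quotient.mk_eq_zero _).2
        (Submodule.mem_sup_left ⟨x, rfl⟩), TensorProduct.tmul_zero]
    | add w w' hw hw' => rw [map_add, map_add, hw, hw', add_zero]
  have hT : T ≤ LinearMap.ker ρ := by
    show _ • ⊤ ≤ _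
    rw [Submodule.smul_le]
    intro b hb z _
    rw [LinearMap.mem_ker, map_smul]
    have hb' : (J ^ n).map (algebraMap A A') ≤ (Submodule.annihilator (⊤ : Submodule A' (A' ⊗[A] (M₂ ⧸ K)))) := by
      rw [Ideal.map_le_iff_le_comap]
      intro r hr
      rw [Ideal.mem_comap, Submodule.mem_annihilator]
      intro v hv
      clear hv
      induction v using TensorProduct.induction_on with
      | zero => simp
      | tmul c q => rw [algebraMap_smul, ← TensorProduct.tmul_smul, hkill r hr q, TensorProduct.tmul_zero]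
      | add v v' hv hv' => rw [smul_add, hv, hv', add_zero]
    exact Submodule.mem_annihilator.1 (hb' hb) _ trivial
  have hmem : ∀ r ∈ 𝔞 ^ l, ∀ y : M₂, r • y ∈ K := by
    intro r hr y
    obtain ⟨w, hw⟩ := hl r hr y
    have h0 : ρ (algebraMap A A' r • ((1 : A') ⊗ₜ[A] y)) = 0 := by
      rw [← hw, ← sub_add_cancel (h w) (g.baseChange A' w), map_add, hρg, add_zero]
      exact hT (hg' w)
    rw [algebraMap_smul, ← TensorProduct.tmul_smul] at h0
    exact (Submodule.Quotient.mk_eq_zero _).1
      (eq_zero_of_one_tmul_eq_zero hsurj hinj hkill (K.mkQ (r • y)) h0)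
  let P : Submodule A (M₂ ⧸ LinearMap.range g) := 𝔞 ^ l • ⊤
  have hP : P ≤ J • P := by
    show _ • ⊤ ≤ _
    rw [Submodule.smul_le]
    intro r hr z _
    obtain ⟨y, rfl⟩ := (LinearMap.range g).mkQ_surjective z
    rw [← map_smul]
    obtain ⟨a, ha, b, hb, hab⟩ := Submodule.mem_sup.1 (hmem r hr y)
    rw [← hab, map_add, show (LinearMap.range g).mkQ a = 0 from (Submodule.Quotient.mk_eq_zero _).2 ha, zero_add]
    have : (LinearMap.range g).mkQ b ∈ ((J * 𝔞 ^ l) • (⊤ : Submodule A M₂)).map (LinearMap.range g).mkQ :=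
      Submodule.mem_map_of_mem hb
    rw [Submodule.map_smul'', Submodule.map_top, Submodule.range_mkQ] at this
    rw [← Submodule.smul_assoc, smul_eq_mul]
    exact this
  have hbot : P = ⊥ := Submodule.eq_bot_of_le_smul_of_le_jacobson_bot J P (IsNoetherian.noetherian _) hP hJ
  intro r hr y
  refine (Submodule.Quotient.mk_eq_zero (LinearMap.range g)).1 ?_
  rw [Submodule.Quotient.mk_smul]
  exact (Submodule.mem_bot A).1 (hbot ▸ Submodule.smul_mem_smul hr trivial)

end GrothLib.ZPairVB28
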