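import Groth.Agent.Lib.PuncSys7.Main
import Groth.Agent.S2265

/-!
# Sheaves of finite modules on a punctured spectrum and base change
-/

set_option autoImplicit false
set_option linter.style.haveILetI false
set_option backward.isDefEq.respectTransparency false

universe u

open CategoryTheory CategoryTheory.Limits AlgebraicGeometry Opposite TopologicalSpace
open scoped TensorProduct

namespace GrothLib.ZPairVB28

open GrothLib.Punctured (puncFun)
open GrothLib.PuncSys7

variable {A : Type u} [CommRing A] [IsNoetherianRing A] {𝔞 : Ideal A}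

local notation "UU" => LocCoh.puncturedOpen A 𝔞

/-- The map to sections adjoint to a map on the open. -/
noncomputable def sectLift {N : ModuleCat.{u} A} {P : (↑UU : Scheme.{u}).Modules}
    (f : (puncFun 𝔞).obj N ⟶ P) : N ⟶ gsec P :=
  (tilde.adjunction (R := CommRingCat.of A)).homEquiv N _ ((Scheme.Modules.restrictAdjunction (UU).ι).homEquiv _ _ f)

theorem map_sectLift {N : ModuleCat.{u} A} {P : (↑UU : Scheme.{u}).Modules} (f : (puncFun 𝔞).obj N ⟶ P) :
    (puncFun 𝔞).map (sectLift f) ≫ scounit P = f := by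
  let ψ : (tilde.functor (CommRingCat.of A)).obj N ⟶ (Scheme.Modules.pushforward (UU).ι).obj P :=
    (Scheme.Modules.restrictAdjunction (UU).ι).homEquiv _ _ f
  have h1 : (tilde.functor (CommRingCat.of A)).map (sectLift f) ≫
      (tilde.adjunction (R := CommRingCat.of A)).counit.app _ = ψ := by
    exact ((tilde.adjunction (R := CommRingCat.of A)).homEquiv_counit _ _ (sectLift f)).symm.trans
      (Equiv.symm_apply_apply _ _)
  have h2 : (Scheme.Modules.restrictFunctor (UU).ι).map ψ ≫
      (Scheme.Modules.restrictAdjunction (UU).ι).counit.app P = f := by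
    exact ((Scheme.Modules.restrictAdjunction (UU).ι).homEquiv_counit _ _ ψ).symm.trans (Equiv.symm_apply_apply _ _)
  refine Eq.trans ?_ h2
  rw [← h1]
  exact ((Category.assoc _ _ _).symm.trans
    (congrArg (· ≫ _) ((Scheme.Modules.restrictFunctor (UU).ι).map_comp _ _).symm))

theorem sectLift_map {N : ModuleCat.{u} A} {P : (↑UU : Scheme.{u}).Modules} (φ : N ⟶ gsec P) :
    sectLift ((puncFun 𝔞).map φ ≫ scounit P) = φ := by
  obtain ⟨ψ, rfl⟩ := ((tilde.adjunction (R := CommRingCat.of A)).homEquiv N _).surjective φ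
  obtain ⟨f, rfl⟩ := ((Scheme.Modules.restrictAdjunction (UU).ι).homEquiv _ P).surjective ψ
  show sectLift ((puncFun 𝔞).map (sectLift f) ≫ scounit P) = sectLift f
  rw [map_sectLift]

/-- The lift of an isomorphism on the open has torsion kernel and cokernel. -/
theorem torsion_sectLift {N : ModuleCat.{u} A} {P : (↑UU : Scheme.{u}).Modules} [P.IsQuasicoherent]
    (e : (puncFun 𝔞).obj N ≅ P) :
    (∀ x : N, (sectLift e.hom).hom x = 0 → ∃ m : ℕ, ∀ r ∈ 𝔞 ^ m, r • x = 0) ∧
      ∀ y : gsec P, ∃ m : ℕ, ∀ r ∈ 𝔞 ^ m, r • y ∈ LinearMap.range (sectLift e.hom).hom := by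
  haveI := isIso_scounit P
  haveI : IsIso ((puncFun 𝔞).map (sectLift e.hom) ≫ scounit P) := by
    rw [map_sectLift]; infer_instance
  haveI : IsIso ((puncFun 𝔞).map (sectLift e.hom)) := IsIso.of_isIso_comp_right _ (scounit P)
  exact torsion_of_isIso _

/-- Sections over the open have no torsion. -/
theorem eq_zero_of_smul_gsec {P : (↑UU : Scheme.{u}).Modules} (x : gsec P) (h : ∀ r ∈ 𝔞, r • x = 0) : x = 0 := by
  let K : Submodule A (gsec P) := Submodule.span A {x}
  have hK : ∀ r ∈ 𝔞 ^ 1, ∀ z : ModuleCat.of A K, r • z = 0 := by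
    intro r hr z
    obtain ⟨c, hc⟩ := Submodule.mem_span_singleton.1 z.2
    refine Subtype.ext ?_
    show r • (z : K).1 = 0
    rw [← hc, smul_comm, h r (by simpa using hr), smul_zero]
  have h0 : (puncFun 𝔞).map (incl K) ≫ scounit P = 0 := (isZero_puncFun 𝔞 (ModuleCat.of A K) hK).eq_of_src _ _
  have h1 : incl K = sectLift (0 : (puncFun 𝔞).obj (ModuleCat.of A K) ⟶ P) := by
    rw [← h0, sectLift_map]
  have h2 : (0 : ModuleCat.of A K ⟶ gsec P) = sectLift (0 : (puncFun 𝔞).obj (ModuleCat.of A K) ⟶ P) := by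
    rw [← sectLift_map (0 : ModuleCat.of A K ⟶ gsec P), Functor.map_zero, zero_comp]
  exact congrArg (fun f => f.hom ⟨x, Submodule.mem_span_singleton_self x⟩) (h1.trans h2.symm)

/-- A map with cokernel killed by a power of the ideal is epi on the open. -/
theorem epi_puncFun {M N : ModuleCat.{u} A} (g : M ⟶ N) {l : ℕ}
    (hg : ∀ r ∈ 𝔞 ^ l, ∀ y : N, r • y ∈ LinearMap.range g.hom) : Epi ((puncFun 𝔞).map g) := by
  let r : M ⟶ ModuleCat.of A (LinearMap.range g.hom) := ModuleCat.ofHom g.hom.rangeRestrict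
  haveI : Epi r := (ModuleCat.epi_iff_surjective r).2 g.hom.surjective_rangeRestrict
  haveI : Epi ((puncFun 𝔞).map r) :=
    (Punctured.puncFun_shortExact 𝔞 (ShortComplex.mk (kernel.ι r) r (kernel.condition r))
      { exact := ShortComplex.exact_of_f_is_kernel _ (kernelIsKernel r) }).epi_g
  haveI h1 : IsIso ((puncFun 𝔞).map
      (ModuleCat.ofHom (Submodule.inclusion (le_top : LinearMap.range g.hom ≤ ⊤)))) :=
    isIso_puncFun_incl (S := N) le_top (m := l) fun a ha x _ => hg a ha x
  let t : ModuleCat.of A (⊤ : Submodule A N) ⟶ N := (LinearEquiv.toModuleIso Submodule.topEquiv).hom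
  have e : g = r ≫ ModuleCat.ofHom (Submodule.inclusion (le_top : LinearMap.range g.hom ≤ ⊤)) ≫ t := by
    ext x; rfl
  rw [e, Functor.map_comp, Functor.map_comp]
  infer_instance

variable {A' : Type u} [CommRing A'] [Algebra A A']

/-- Base change of the sheaf of a module on the open. -/
theorem nonempty_pullback_puncFun (V : (Spec (CommRingCat.of A')).Opens) (g : (↑V : Scheme.{u}) ⟶ (↑UU : Scheme.{u}))
    (hg : g ≫ (UU).ι = V.ι ≫ Spec.map (CommRingCat.ofHom (algebraMap A A')))
    (N : Type u) [AddCommGroup N] [Module A N] :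
    Nonempty ((Scheme.Modules.restrictFunctor V.ι).obj (tilde (R := CommRingCat.of A') (ModuleCat.of A' (A' ⊗[A] N))) ≅
      (Scheme.Modules.pullback g).obj ((puncFun 𝔞).obj (ModuleCat.of A N))) := by
  obtain ⟨e⟩ := Groth.Agent.S2265.result A A' N
  exact ⟨(Scheme.Modules.restrictFunctorIsoPullback V.ι).app _ ≪≫
    (Scheme.Modules.pullback V.ι).mapIso e.symm ≪≫
    (Scheme.Modules.pullbackComp V.ι (Spec.map _)).app _ ≪≫
    (Scheme.Modules.pullbackCongr hg.symm).app _ ≪≫
    ((Scheme.Modules.pullbackComp g (UU).ι).app _).symm ≪≫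
    (Scheme.Modules.pullback g).mapIso ((Scheme.Modules.restrictFunctorIsoPullback (UU).ι).app _).symm⟩

end GrothLib.ZPairVB28
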